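import Mathlib

/-!
# Residue fields of purely inseparable base changes
-/

set_option autoImplicit false
set_option linter.style.haveILetI false

universe u

open IsLocalRing TensorProduct

noncomputable section

namespace Groth.Agent.FSParaLib

/-- Geometric reducedness only depends on the field up to isomorphism. -/
theorem isGeometricallyReduced_congr (k k' A : Type u) [Field k] [Field k'] [CommRing A] [Algebra k k']
    (hb : Function.Surjective (algebraMap k k')) [Algebra k A] [Algebra k' A] [IsScalarTower k k' A]
    (h : Algebra.IsGeometricallyReduced k A) : Algebra.IsGeometricallyReduced k' A := by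
  rw [Algebra.isGeometricallyReduced_field_iff]
  haveI : Module.Finite k k' := Module.Finite.of_surjective (Algebra.linearMap k k') hb
  haveI : Algebra.IsAlgebraic k (AlgebraicClosure k') := Algebra.IsAlgebraic.trans k k' _
  haveI : IsReduced (AlgebraicClosure k' ⊗[k] A) := inferInstance
  haveI : TensorProduct.CompatibleSMul k k' (AlgebraicClosure k') A := ⟨fun r m n => by
    obtain ⟨c, rfl⟩ := hb r
    rw [algebraMap_smul, algebraMap_smul, TensorProduct.smul_tmul]⟩
  exact isReduced_of_injective (Algebra.TensorProduct.equivOfCompatibleSMul k k' k (AlgebraicClosure k') A)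
    (AlgEquiv.injective _)

/-- A surjection to a local ring-like target with unique prime: all maximal ideals coincide. -/
theorem isLocalRing_of_ker_le {E Q : Type u} [CommRing E] [CommRing Q] [Nontrivial E] (Φ : E →+* Q)
    (hΦ : Function.Surjective Φ) (hQ : Subsingleton (PrimeSpectrum Q))
    (hM : ∀ M : Ideal E, M.IsMaximal → RingHom.ker Φ ≤ M) : IsLocalRing E := by
  obtain ⟨M₀, hM₀⟩ := Ideal.exists_maximal E
  refine IsLocalRing.of_unique_max_ideal ⟨M₀, hM₀, fun M hM' => ?_⟩
  haveI := hM'
  haveI := hM₀
  haveI h1 : (M.map Φ).IsPrime := Ideal.map_isPrime_of_surjective hΦ (hM M hM')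
  haveI h2 : (M₀.map Φ).IsPrime := Ideal.map_isPrime_of_surjective hΦ (hM M₀ hM₀)
  have h := congrArg (Ideal.comap Φ) (congrArg PrimeSpectrum.asIdeal
    (hQ.elim (⟨M.map Φ, h1⟩ : PrimeSpectrum Q) ⟨M₀.map Φ, h2⟩))
  simp only [Ideal.comap_map_of_surjective Φ hΦ] at h
  rwa [← RingHom.ker_eq_comap_bot, sup_eq_left.2 (hM M hM'), sup_eq_left.2 (hM M₀ hM₀)] at h

end Groth.Agent.FSParaLib
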