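import Groth.Agent.FSParaLib.Struct
import Groth.Agent.FSParaLib.Residue
import Groth.Agent.RamSamLib.DepthTwoMain
import Groth.Agent.AdicFS.Fibre
import Groth.Agent.FlatDepth.Basic
import Groth.Agent.FiniteCompleteLib.Basic
import Groth.Agent.CILib.SmoothFlat
import Groth.Agent.RatliffLib.Formal
import Groth.Agent.S2461
import Groth.Agent.S2366
import Groth.Agent.S2865

/-!
# Ramanujam–Samuel for formally smooth local homomorphisms

`A → B` local and formally smooth, residue field extension of finite radicial multiplicity,
`dim B > dim A`, `depth B ≥ 3`: then `B` is parafactorial.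
-/

set_option autoImplicit false
set_option linter.style.haveILetI false

universe u

open IsLocalRing TensorProduct

noncomputable section

namespace Groth.Agent.FSParaLib

theorem fibre_dim_zero {L L' : Type u} [CommRing L] [CommRing L'] [IsLocalRing L] [IsLocalRing L'] [Algebra L L']
    (hm : (maximalIdeal L).map (algebraMap L L') = maximalIdeal L') :
    ringKrullDim (L' ⧸ (maximalIdeal L).map (algebraMap L L')) = 0 := by
  rw [hm]
  exact ringKrullDim_eq_zero_of_isField
    ((Ideal.Quotient.maximal_ideal_iff_isField_quotient _).1 (maximalIdeal.isMaximal _))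

theorem parafactorial_congr {L L' : Type u} [CommRing L] [CommRing L'] [IsNoetherianRing L] [IsLocalRing L]
    [IsNoetherianRing L'] [IsLocalRing L'] (e : L ≃+* L') (h : ParaF.IsParafactorialLocalRing L') :
    ParaF.IsParafactorialLocalRing L := by
  letI : Algebra L L' := e.toRingHom.toAlgebra
  haveI : IsLocalHom (algebraMap L L') := ⟨fun a ha => (isUnit_map_iff e a).1 ha⟩
  haveI : Module.Flat L L' := RingHom.flat_algebraMap_iff.1 (RingHom.Flat.of_bijective e.bijective)
  exact Groth.Agent.S2865.result L L' (fibre_dim_zero (IsLocalRing.map_ringEquiv_maximalIdeal e)) h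

theorem depth_congr_ring {L L' : Type u} [CommRing L] [CommRing L'] [IsNoetherianRing L] [IsLocalRing L]
    [IsNoetherianRing L'] [IsLocalRing L'] (e : L ≃+* L') : LocCoh.depth L L = LocCoh.depth L' L' := by
  letI : Algebra L L' := e.toRingHom.toAlgebra
  haveI : Module.Flat L L' := RingHom.flat_algebraMap_iff.1 (RingHom.Flat.of_bijective e.bijective)
  exact (Depth.depth_eq_of_map_maximalIdeal L L' (IsLocalRing.map_ringEquiv_maximalIdeal e)).symm

theorem two_le_depth_base (C : Type u) [CommRing C] [IsNoetherianRing C] [IsLocalRing C]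
    (h : (3 : ℕ∞) ≤ LocCoh.depth (PowerSeries C) (PowerSeries C)) : (2 : ℕ∞) ≤ LocCoh.depth C C := by
  have hX : (PowerSeries.X : PowerSeries C) ∈ maximalIdeal (PowerSeries C) := by
    rw [mem_maximalIdeal, mem_nonunits_iff, PowerSeries.isUnit_iff_constantCoeff, PowerSeries.constantCoeff_X]
    exact not_isUnit_zero
  have hreg : IsSMulRegular (PowerSeries C) (PowerSeries.X : PowerSeries C) := fun a b hab => PowerSeries.X_mul_cancel hab
  have h1 := FlatDepth.depth_quotSMulTop hX hreg
  letI : Algebra (PowerSeries C) C := (PowerSeries.constantCoeff (R := C)).toAlgebra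
  have hs : Function.Surjective (algebraMap (PowerSeries C) C) := fun c => ⟨PowerSeries.C c, PowerSeries.constantCoeff_C c⟩
  let e : QuotSMulTop (PowerSeries.X : PowerSeries C) (PowerSeries C) ≃ₗ[PowerSeries C] C :=
    (Submodule.quotEquivOfEq _ _ (by
      ext f
      rw [LinearMap.mem_ker, ← Submodule.ideal_span_singleton_smul, smul_eq_mul, Ideal.mul_top,
        Ideal.mem_span_singleton, PowerSeries.X_dvd_iff]
      rfl)).trans ((Algebra.linearMap (PowerSeries C) C).quotKerEquivOfSurjective hs)
  rw [FlatDepth.depth_congr e, ← FlatDepth.depth_of_surjective hs C] at h1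
  rw [← h1] at h
  by_contra hlt
  rw [not_le] at hlt
  obtain ⟨n, hn⟩ := ENat.ne_top_iff_exists.1 hlt.ne_top
  rw [← hn] at h hlt
  norm_cast at h hlt
  omega

/-- The complete case, residue separable. -/
theorem isParafactorial_of_structure (A E : Type u) [CommRing A] [IsNoetherianRing A] [IsLocalRing A]
    [CommRing E] [IsNoetherianRing E] [IsLocalRing E] [IsAdicComplete (maximalIdeal E) E] [Algebra A E]
    [IsLocalHom (algebraMap A E)] [Module.Flat A E]
    [Algebra.IsGeometricallyReduced (ResidueField A) (ResidueField E)]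
    (hreg : IsRegularLocalRing (E ⧸ (maximalIdeal A).map (algebraMap A E)))
    (hdim : ringKrullDim A < ringKrullDim E) (hdepth : (3 : ℕ∞) ≤ LocCoh.depth E E) :
    ParaF.IsParafactorialLocalRing E := by
  obtain ⟨R, _, _, hnR, d, hcR, hd, e, -⟩ := exists_powerSeries_equiv A E hreg
  haveI := hnR
  haveI := hcR
  have h := CILib.ringKrullDim_eq_add_of_flat (R := A) (S := E)
  rw [hd] at h
  cases d with
  | zero =>
    rw [Nat.cast_zero, add_zero] at h
    exact absurd h hdim.ne'
  | succ d =>
    haveI : IsNoetherianRing (MvPowerSeries (Fin d) R) := MvPowerSeries.isNoetherianRing R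
    haveI : IsNoetherianRing (PowerSeries (MvPowerSeries (Fin d) R)) :=
      isNoetherianRing_of_ringEquiv _ (e.trans (MvPowerSeries.finSuccEquiv R d).toRingEquiv)
    obtain ⟨-, -, -, hcomp⟩ := ArtFunLib.exists_psCRing (Λ := R) (k := ResidueField R) residue_surjective d
    haveI := hcomp
    let e' : E ≃+* PowerSeries (MvPowerSeries (Fin d) R) := e.trans (MvPowerSeries.finSuccEquiv R d).toRingEquiv
    refine parafactorial_congr e' (RamSamLib.isParafactorialLocalRing_powerSeries _ (two_le_depth_base _ ?_))
    rwa [← depth_congr_ring e']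

variable (A B : Type u) [CommRing A] [IsNoetherianRing A] [IsLocalRing A] [CommRing B] [IsNoetherianRing B]
  [IsLocalRing B] [IsAdicComplete (maximalIdeal B) B] [Algebra A B] [IsLocalHom (algebraMap A B)]

/-- A finite flat base change making the residue extension separable. -/
theorem exists_separable_baseChange (hfs : CAlgX.IsAdicFormallySmooth A B (maximalIdeal B))
    (k' : Type u) [Field k'] [Algebra (ResidueField A) k'] [Module.Finite (ResidueField A) k']
    [IsPurelyInseparable (ResidueField A) k']
    (hgr : Algebra.IsGeometricallyReduced k' ((k' ⊗[ResidueField A] ResidueField B) ⧸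
      nilradical (k' ⊗[ResidueField A] ResidueField B))) :
    ∃ (A' E : Type u) (_ : CommRing A') (_ : IsNoetherianRing A') (_ : IsLocalRing A') (_ : CommRing E)
      (_ : IsNoetherianRing E) (_ : IsLocalRing E) (_ : Algebra A' E) (_ : IsLocalHom (algebraMap A' E))
      (_ : Algebra B E) (_ : IsLocalHom (algebraMap B E)),
      IsAdicComplete (maximalIdeal E) E ∧ Module.Flat A' E ∧ Module.Flat B E ∧
      Algebra.IsGeometricallyReduced (ResidueField A') (ResidueField E) ∧
      IsRegularLocalRing (E ⧸ (maximalIdeal A').map (algebraMap A' E)) ∧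
      ringKrullDim A' = ringKrullDim A ∧
      ringKrullDim (E ⧸ (maximalIdeal B).map (algebraMap B E)) = 0 ∧
      (maximalIdeal A').map (algebraMap A' E) =
        ((maximalIdeal A).map (algebraMap A B)).map (algebraMap B E) := by
  classical
  haveI hflB : Module.Flat A B := AdicFS.flat_of_adic hfs
  obtain ⟨A', _, _, hA'l, hA'h, hA'f, hA'fin, e₁, he₁⟩ := S2366.result (A := A) k'
  haveI := hA'l
  haveI := hA'h
  haveI := hA'f
  haveI := hA'fin
  haveI : IsNoetherianRing A' := IsNoetherianRing.of_finite A A'
  -- the maximal ideal of `A'`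
  have hmA' : (maximalIdeal A).map (algebraMap A A') = maximalIdeal A' :=
    eq_maximalIdeal (Ideal.Quotient.maximal_of_isField _ (e₁.toMulEquiv.isField (Field.toIsField k')))
  letI : Algebra A k' := ((algebraMap (ResidueField A) k').comp (residue A)).toAlgebra
  haveI : IsScalarTower A (ResidueField A) k' := IsScalarTower.of_algebraMap_eq fun _ => rfl
  let p : A' →ₐ[A] k' := { e₁.toRingHom.comp (Ideal.Quotient.mk _) with commutes' := he₁ }
  have hp : Function.Surjective p := e₁.surjective.comp Ideal.Quotient.mk_surjective
  have hpk : RingHom.ker p.toRingHom = maximalIdeal A' := eq_maximalIdeal (RingHom.ker_isMaximal_of_surjective _ hp)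
  let q : B →ₐ[A] ResidueField B := IsScalarTower.toAlgHom A B (ResidueField B)
  have hq : Function.Surjective q := residue_surjective
  have hqk : RingHom.ker q.toRingHom = maximalIdeal B := IsLocalRing.ker_residue
  -- the base change
  let E := A' ⊗[A] B
  letI : Algebra B E := Algebra.TensorProduct.rightAlgebra
  haveI : Module.Finite B E := Module.Finite.equiv (Algebra.IsPushout.equiv A B A' E).toLinearEquiv
  haveI : IsNoetherianRing E := IsNoetherianRing.of_finite B E
  let Q := k' ⊗[ResidueField A] ResidueField B
  haveI : TensorProduct.CompatibleSMul A (ResidueField A) k' (ResidueField B) := ⟨fun r m n => by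
    obtain ⟨c, rfl⟩ := residue_surjective r
    rw [show residue A c = algebraMap A (ResidueField A) c from rfl, algebraMap_smul, algebraMap_smul,
      TensorProduct.smul_tmul]⟩
  let Φ₀ := Algebra.TensorProduct.map p q
  let cmp : (k' ⊗[ResidueField A] ResidueField B) ≃ₐ[A] (k' ⊗[A] ResidueField B) :=
    Algebra.TensorProduct.equivOfCompatibleSMul A (ResidueField A) A k' (ResidueField B)
  let Φ : E →ₐ[A] Q := cmp.symm.toAlgHom.comp Φ₀
  have hΦ₀ : Function.Surjective Φ₀ := TensorProduct.map_surjective hp hq
  have hΦ : Function.Surjective Φ := cmp.symm.surjective.comp hΦ₀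
  have hΦk : RingHom.ker Φ.toRingHom = (maximalIdeal A').map (algebraMap A' E) ⊔
      (maximalIdeal B).map (algebraMap B E) := by
    rw [← hpk, ← hqk]
    refine Eq.trans ?_ (Algebra.TensorProduct.map_ker p q hp hq)
    ext z
    rw [RingHom.mem_ker, RingHom.mem_ker]
    exact map_eq_zero_iff cmp.symm cmp.symm.injective
  haveI hQ : Subsingleton (PrimeSpectrum Q) := by
    let c := Algebra.TensorProduct.comm (ResidueField A) k' (ResidueField B)
    have h1 := (PrimeSpectrum.isHomeomorph_comap_of_isPurelyInseparable (ResidueField A) k' (ResidueField B)).injective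
    have h2 : Function.Injective (PrimeSpectrum.comap (c.symm : (ResidueField B ⊗[ResidueField A] k') →+* Q)) :=
      PrimeSpectrum.comap_injective_of_surjective _ c.symm.surjective
    exact ⟨fun a b => h2 (h1 (Subsingleton.elim _ _))⟩
  haveI : Nontrivial Q := inferInstance
  haveI : Nontrivial E := Φ.toRingHom.domain_nontrivial
  have hM : ∀ M : Ideal E, M.IsMaximal → RingHom.ker Φ.toRingHom ≤ M := fun M hM => by
    haveI := hM
    have hB : (maximalIdeal B).map (algebraMap B E) ≤ M := Ideal.map_le_iff_le_comap.2
      (eq_maximalIdeal (Ideal.isMaximal_comap_of_isIntegral_of_isMaximal M)).ge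
    rw [hΦk]
    refine sup_le ?_ hB
    rw [← hmA', Ideal.map_map]
    refine le_trans ?_ hB
    rw [show (algebraMap A' E).comp (algebraMap A A') = (algebraMap B E).comp (algebraMap A B) from
      RingHom.ext fun a => ((Algebra.TensorProduct.includeLeft : A' →ₐ[A] E).commutes a).trans
        ((Algebra.TensorProduct.includeRight : B →ₐ[A] E).commutes a).symm, ← Ideal.map_map]
    exact Ideal.map_mono (IsLocalRing.map_maximalIdeal_le _)
  haveI : IsLocalRing E := isLocalRing_of_ker_le Φ.toRingHom hΦ hQ hM
  haveI : IsLocalHom (algebraMap A' E) := ((local_hom_TFAE _).out 0 2).mpr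
    ((le_sup_left.trans hΦk.ge).trans (hM _ (maximalIdeal.isMaximal E)))
  haveI : IsLocalHom (algebraMap B E) := ((local_hom_TFAE _).out 0 2).mpr
    ((le_sup_right.trans hΦk.ge).trans (hM _ (maximalIdeal.isMaximal E)))
  haveI : IsAdicComplete (maximalIdeal E) E := FiniteCompleteLib.isAdicComplete_maximalIdeal B E
  haveI : Module.Flat A' E := inferInstance
  haveI : Module.Flat B E := Module.Flat.of_linearEquiv
    (R := B) (M := B ⊗[A] A') (Algebra.IsPushout.equiv A B A' E).symm.toLinearEquiv
  -- residue field
  haveI : Algebra.IsGeometricallyReduced (ResidueField A') (ResidueField E) := by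
    letI : Algebra (ResidueField A') k' :=
      (RingHom.liftOfSurjective (residue A') residue_surjective
        ⟨p.toRingHom, by rw [IsLocalRing.ker_residue, hpk]⟩).toAlgebra
    let ρ : Q →+* ResidueField E := RingHom.liftOfSurjective Φ.toRingHom hΦ
      ⟨residue E, by rw [IsLocalRing.ker_residue]; exact hM _ (maximalIdeal.isMaximal E)⟩
    have hρ : ∀ z, ρ (Φ z) = residue E z := fun z => RingHom.liftOfRightInverse_comp_apply _ _ _ _ _
    have hρs : Function.Surjective ρ := fun y => by
      obtain ⟨z, rfl⟩ := residue_surjective y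
      exact ⟨_, hρ z⟩
    have hρk : RingHom.ker ρ = nilradical Q := by
      haveI : (RingHom.ker ρ).IsPrime := RingHom.ker_isPrime _
      refine le_antisymm ?_ (fun x hx => RingHom.mem_ker.2 ?_)
      · rw [nilradical_eq_sInf]
        refine le_sInf fun P hP => ?_
        exact (congrArg PrimeSpectrum.asIdeal
          (hQ.elim (⟨RingHom.ker ρ, inferInstance⟩ : PrimeSpectrum Q) ⟨P, hP⟩)).le
      · exact IsReduced.eq_zero _ (IsNilpotent.map (mem_nilradical.1 hx) ρ)
    let eQ : (Q ⧸ nilradical Q) ≃+* ResidueField E :=
      (Ideal.quotEquivOfEq hρk.symm).trans (RingHom.quotientKerEquivOfSurjective hρs)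
    letI : Algebra k' (ResidueField E) := (ρ.comp (algebraMap k' Q)).toAlgebra
    have h1 : Algebra.IsGeometricallyReduced k' (ResidueField E) := by
      haveI := hgr
      let eA : (Q ⧸ nilradical Q) ≃ₐ[k'] ResidueField E := AlgEquiv.ofRingEquiv (f := eQ) fun x => rfl
      exact Algebra.IsGeometricallyReduced.of_injective eA.symm.toAlgHom eA.symm.injective
    have hbij : Function.Bijective (algebraMap (ResidueField A') k') :=
      ⟨RingHom.injective _, fun y => by
        obtain ⟨a, rfl⟩ := hp y
        exact ⟨residue A' a, RingHom.liftOfRightInverse_comp_apply _ _ _ _ _⟩⟩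
    let eR := RingEquiv.ofBijective _ hbij
    letI : Algebra k' (ResidueField A') := eR.symm.toRingHom.toAlgebra
    haveI : IsScalarTower k' (ResidueField A') (ResidueField E) := IsScalarTower.of_algebraMap_eq fun x => by
      obtain ⟨a, rfl⟩ := hp x
      have h2 : eR.symm (p a) = residue A' a := by
        rw [RingEquiv.symm_apply_eq]
        show p a = algebraMap (ResidueField A') k' (residue A' a)
        exact (RingHom.liftOfRightInverse_comp_apply (residue A') (Function.surjInv residue_surjective)
          (Function.rightInverse_surjInv residue_surjective) ⟨p.toRingHom, by rw [IsLocalRing.ker_residue, hpk]⟩ a).symm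
      show ρ (algebraMap k' Q (p a)) = algebraMap (ResidueField A') (ResidueField E) (eR.symm (p a))
      rw [h2]
      show _ = residue E (algebraMap A' E a)
      rw [← hρ]
      congr 1
    exact isGeometricallyReduced_congr k' (ResidueField A') (ResidueField E) eR.symm.surjective h1
  -- the fibre is regular
  have hreg : IsRegularLocalRing (E ⧸ (maximalIdeal A').map (algebraMap A' E)) := by
    haveI := hA'l
    let F := (maximalIdeal A).Fiber B
    let κ := (maximalIdeal A).ResidueField
    have hgeo := AdicFS.fibre_geometricallyRegular_of_adic (A := A) (B := B) hfs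
    letI : Algebra κ k' := (Ideal.ResidueField.lift (maximalIdeal A) (algebraMap A k')
      (fun a ha => by
        show algebraMap (ResidueField A) k' (residue A a) = 0
        rw [(residue_eq_zero_iff a).2 ha, map_zero])
      (fun a ha => (notMem_maximalIdeal.1 ha).map (algebraMap A k'))).toAlgebra
    haveI : IsScalarTower A κ k' := IsScalarTower.of_algebraMap_eq fun a =>
      (Ideal.ResidueField.lift_algebraMap (maximalIdeal A) _ _ _ a).symm
    haveI : Module.Finite A k' := Module.Finite.of_surjective p.toLinearMap hp
    haveI : Module.Finite κ k' := Module.Finite.of_restrictScalars_finite A κ k'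
    have hR : IsRegularRing (k' ⊗[κ] F) := hgeo k' inferInstance
    let e2 : (k' ⊗[κ] F) ≃+* (k' ⊗[A] B) := (Algebra.TensorProduct.cancelBaseChange A κ k' k' B).toRingEquiv
    let g := Algebra.TensorProduct.map p (AlgHom.id A B)
    have hg : Function.Surjective g := TensorProduct.map_surjective hp Function.surjective_id
    have hgk : RingHom.ker g.toRingHom = (maximalIdeal A').map (algebraMap A' E) := by
      rw [← hpk]
      exact Algebra.TensorProduct.rTensor_ker p hp
    let e3 : (E ⧸ (maximalIdeal A').map (algebraMap A' E)) ≃+* (k' ⊗[A] B) :=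
      (Ideal.quotEquivOfEq hgk.symm).trans (RingHom.quotientKerEquivOfSurjective hg)
    haveI : IsRegularRing (E ⧸ (maximalIdeal A').map (algebraMap A' E)) :=
      IsRegularRing.of_ringEquiv (R := k' ⊗[κ] F) (e2.trans e3.symm)
    haveI : IsLocalRing (E ⧸ (maximalIdeal A').map (algebraMap A' E)) :=
      haveI : Nontrivial (E ⧸ (maximalIdeal A').map (algebraMap A' E)) := Ideal.Quotient.nontrivial_iff.2
        (ne_top_of_le_ne_top (maximalIdeal.isMaximal E).ne_top (IsLocalRing.map_maximalIdeal_le _))
      .of_surjective' _ Ideal.Quotient.mk_surjective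
    exact IsRegularLocalRing.of_isRegularRing_of_isLocalRing _
  -- dimension and depth
  have hfib : ringKrullDim (E ⧸ (maximalIdeal B).map (algebraMap B E)) = 0 := by
    haveI := Groth.Agent.Hensel.isArtinianRing_quotient_maximalIdeal B E
    haveI : Nontrivial (E ⧸ (maximalIdeal B).map (algebraMap B E)) := Ideal.Quotient.nontrivial_iff.2
      (ne_top_of_le_ne_top (maximalIdeal.isMaximal E).ne_top (IsLocalRing.map_maximalIdeal_le _))
    exact ringKrullDimZero_iff_ringKrullDim_eq_zero.1 inferInstance
  refine ⟨A', E, inferInstance, inferInstance, inferInstance, inferInstance, inferInstance, inferInstance,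
    inferInstance, inferInstance, inferInstance, inferInstance, inferInstance, inferInstance, inferInstance,
    inferInstance, hreg, Depth.ringKrullDim_eq_of_map_maximalIdeal A A' hmA', hfib, ?_⟩
  rw [← hmA', Ideal.map_map, Ideal.map_map]
  congr 1
  exact RingHom.ext fun a => ((Algebra.TensorProduct.includeLeft : A' →ₐ[A] E).commutes a).trans
    ((Algebra.TensorProduct.includeRight : B →ₐ[A] E).commutes a).symm

/-- Depth does not drop along flat local homomorphisms. -/
theorem depth_le_of_flat {L L' : Type u} [CommRing L] [CommRing L'] [IsNoetherianRing L] [IsLocalRing L]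
    [IsNoetherianRing L'] [IsLocalRing L'] [Algebra L L'] [IsLocalHom (algebraMap L L')] [Module.Flat L L'] :
    LocCoh.depth L L ≤ LocCoh.depth L' L' := by
  have h2 := FlatDepth.depth_tensor (A := L) (B := L') (N := L') L
  rw [FlatDepth.depth_congr (AlgebraTensorModule.rid L L' L')] at h2
  rw [h2]
  exact le_self_add

/-- The complete case. -/
theorem isParafactorial_complete (hfs : CAlgX.IsAdicFormallySmooth A B (maximalIdeal B))
    (hdim : ringKrullDim A < ringKrullDim B) (hdepth : (3 : ℕ∞) ≤ LocCoh.depth B B)
    (k' : Type u) [Field k'] [Algebra (ResidueField A) k'] [Module.Finite (ResidueField A) k']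
    [IsPurelyInseparable (ResidueField A) k']
    (hgr : Algebra.IsGeometricallyReduced k' ((k' ⊗[ResidueField A] ResidueField B) ⧸
      nilradical (k' ⊗[ResidueField A] ResidueField B))) :
    ParaF.IsParafactorialLocalRing B := by
  obtain ⟨A', E, _, _, _, _, _, _, _, _, _, _, hc, hfA, hfB, hg, hreg, hdimA, hfib, -⟩ :=
    exists_separable_baseChange A B hfs k' hgr
  haveI := hc
  haveI := hfA
  haveI := hfB
  haveI := hg
  refine S2865.result B E hfib (isParafactorial_of_structure A' E hreg ?_ (hdepth.trans depth_le_of_flat))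
  rw [CILib.ringKrullDim_eq_add_of_flat (R := B) (S := E), hfib, add_zero, hdimA]
  exact hdim

/-- The data of the separable flat cover of a formally smooth local homomorphism. -/
theorem exists_data (A B : Type u) [CommRing A] [CommRing B]
    [IsNoetherianRing A] [IsLocalRing A] [IsNoetherianRing B] [IsLocalRing B] [Algebra A B]
    [IsLocalHom (algebraMap A B)]
    (hfs : EGA41.IsFormallySmoothAdic A (maximalIdeal A) B (maximalIdeal B))
    (hres : ∃ (k' : Type u) (_ : Field k') (_ : Algebra (IsLocalRing.ResidueField A) k'),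
      Module.Finite (IsLocalRing.ResidueField A) k' ∧ IsPurelyInseparable (IsLocalRing.ResidueField A) k' ∧
        Algebra.IsGeometricallyReduced k'
          ((k' ⊗[IsLocalRing.ResidueField A] IsLocalRing.ResidueField B) ⧸
            nilradical (k' ⊗[IsLocalRing.ResidueField A] IsLocalRing.ResidueField B))) :
    ∃ (A' E : Type u) (_ : CommRing A') (_ : IsNoetherianRing A') (_ : IsLocalRing A') (_ : CommRing E)
      (_ : IsNoetherianRing E) (_ : IsLocalRing E) (_ : Algebra A' E) (_ : IsLocalHom (algebraMap A' E))
      (_ : Algebra B E) (_ : IsLocalHom (algebraMap B E)),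
      IsAdicComplete (maximalIdeal E) E ∧ Module.Flat A' E ∧ Module.Flat B E ∧
      Algebra.IsGeometricallyReduced (ResidueField A') (ResidueField E) ∧
      IsRegularLocalRing (E ⧸ (maximalIdeal A').map (algebraMap A' E)) ∧
      ringKrullDim A' = ringKrullDim A ∧
      ringKrullDim (E ⧸ (maximalIdeal B).map (algebraMap B E)) = 0 ∧
      (maximalIdeal A').map (algebraMap A' E) =
        ((maximalIdeal A).map (algebraMap A B)).map (algebraMap B E) := by
  obtain ⟨k', _, _, hfin, hpi, hgr⟩ := hres
  haveI := hfin
  haveI := hpi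
  obtain ⟨_, hn, hcomp, hloc, hmax⟩ := RatliffLib.compl_facts B
  haveI := hn
  haveI := hcomp
  haveI := hloc
  replace hmax := hmax.symm
  let Bh := AdicCompletion (maximalIdeal B) B
  haveI : Module.Flat B Bh := AdicCompletion.flat_of_isNoetherian _
  haveI : IsLocalHom (algebraMap A Bh) := by
    rw [IsScalarTower.algebraMap_eq A B Bh]; exact RingHom.isLocalHom_comp _ _
  have hfs' : CAlgX.IsAdicFormallySmooth A Bh (maximalIdeal Bh) := by
    refine CohenPresLib.adic_of_egaAdic ?_
    rw [← hmax]
    exact (S2461.result (maximalIdeal A) (maximalIdeal B)).1 hfs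
  have hgr' : Algebra.IsGeometricallyReduced k' ((k' ⊗[ResidueField A] ResidueField Bh) ⧸
      nilradical (k' ⊗[ResidueField A] ResidueField Bh)) := by
    have hsurj : Function.Surjective (algebraMap (ResidueField B) (ResidueField Bh)) := fun y => by
      obtain ⟨z, rfl⟩ := residue_surjective y
      obtain ⟨c, hc⟩ := Submodule.Quotient.mk_surjective _ (z.val 1)
      refine ⟨residue B c, Ideal.Quotient.eq.2 ?_⟩
      have hmem : z - algebraMap B Bh c ∈ maximalIdeal B ^ 1 • (⊤ : Submodule B Bh) := by
        rw [AdicCompletion.pow_smul_top_eq_ker_eval (IsNoetherian.noetherian _), LinearMap.mem_ker, map_sub, sub_eq_zero]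
        exact hc.symm
      rw [pow_one, Ideal.smul_top_eq_map, Submodule.restrictScalars_mem, hmax] at hmem
      rw [← neg_sub]
      exact neg_mem hmem
    let eK : ResidueField B ≃ₐ[ResidueField A] ResidueField Bh := AlgEquiv.ofRingEquiv
      (f := RingEquiv.ofBijective _ ⟨RingHom.injective _, hsurj⟩) fun x => by
        obtain ⟨a, rfl⟩ := residue_surjective x
        rfl
    let eQ := Algebra.TensorProduct.congr (AlgEquiv.refl (R := k') (A₁ := k')) eK
    let eN : ((k' ⊗[ResidueField A] ResidueField B) ⧸ nilradical _) ≃ₐ[k']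
        ((k' ⊗[ResidueField A] ResidueField Bh) ⧸ nilradical (k' ⊗[ResidueField A] ResidueField Bh)) :=
      Ideal.quotientEquivAlg _ _ eQ (by
        refine le_antisymm (fun x hx => ?_) (Ideal.map_le_iff_le_comap.2 fun y hy =>
          mem_nilradical.2 ((mem_nilradical.1 hy).map eQ))
        exact eQ.apply_symm_apply x ▸ Ideal.mem_map_of_mem _ (mem_nilradical.2 ((mem_nilradical.1 hx).map eQ.symm)))
    haveI := hgr
    exact Algebra.IsGeometricallyReduced.of_injective eN.symm.toAlgHom eN.symm.injective
  obtain ⟨A', E, _, _, _, _, _, _, _, hlA, _, hlB, hc, hfA, hfB, hg, hreg, hdimA, hfib, hmm⟩ :=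
    exists_separable_baseChange A Bh hfs' k' hgr'
  haveI := hfB
  haveI := hlB
  letI : Algebra B E := ((algebraMap Bh E).comp (algebraMap B Bh)).toAlgebra
  haveI : IsScalarTower B Bh E := IsScalarTower.of_algebraMap_eq fun _ => rfl
  haveI : IsLocalHom (algebraMap B E) := RingHom.isLocalHom_comp _ _
  refine ⟨A', E, inferInstance, inferInstance, inferInstance, inferInstance, inferInstance, inferInstance,
    inferInstance, hlA, inferInstance, inferInstance, hc, hfA, Module.Flat.trans B Bh E, hg, hreg, hdimA, ?_, ?_⟩
  · rw [IsScalarTower.algebraMap_eq B Bh E, ← Ideal.map_map, hmax]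
    exact hfib
  · rw [hmm, IsScalarTower.algebraMap_eq B Bh E, ← Ideal.map_map]
    congr 1
    rw [IsScalarTower.algebraMap_eq A B Bh, ← Ideal.map_map]

/-- **Ramanujam–Samuel** for formally smooth local homomorphisms. -/
theorem isParafactorial (A B : Type u) [CommRing A] [CommRing B]
    [IsNoetherianRing A] [IsLocalRing A] [IsNoetherianRing B] [IsLocalRing B] [Algebra A B]
    [IsLocalHom (algebraMap A B)]
    (hfs : EGA41.IsFormallySmoothAdic A (maximalIdeal A) B (maximalIdeal B))
    (hdim : ringKrullDim A < ringKrullDim B) (hdepth : (3 : ℕ∞) ≤ LocCoh.depth B B)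
    (hres : ∃ (k' : Type u) (_ : Field k') (_ : Algebra (IsLocalRing.ResidueField A) k'),
      Module.Finite (IsLocalRing.ResidueField A) k' ∧ IsPurelyInseparable (IsLocalRing.ResidueField A) k' ∧
        Algebra.IsGeometricallyReduced k'
          ((k' ⊗[IsLocalRing.ResidueField A] IsLocalRing.ResidueField B) ⧸
            nilradical (k' ⊗[IsLocalRing.ResidueField A] IsLocalRing.ResidueField B))) :
    ParaF.IsParafactorialLocalRing B := by
  obtain ⟨A', E, _, _, _, _, _, _, _, _, _, _, hc, hfA, hfB, hg, hreg, hdimA, hfib, -⟩ :=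
    exists_data A B hfs hres
  haveI := hc
  haveI := hfA
  haveI := hfB
  haveI := hg
  refine S2865.result B E hfib (isParafactorial_of_structure A' E hreg ?_ (hdepth.trans depth_le_of_flat))
  rw [CILib.ringKrullDim_eq_add_of_flat (R := B) (S := E), hfib, add_zero, hdimA]
  exact hdim

end Groth.Agent.FSParaLib
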