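import Groth.Agent.S2455
import Groth.Agent.S2454
import Groth.Agent.CohenPresLib.FlatIso
import Groth.Agent.FSmoothAdicLib.Lift
import Groth.Agent.RamSamLib.Core
import Groth.Agent.RamSamLib.Main
import Groth.Agent.WildQuotLib.PSReg
import Groth.Agent.RegLocal.Basic
import Groth.Agent.RamSamLib.DepthTwo

/-!
# Complete flat local algebras with regular closed fibre and separable residue extension

They are power series rings over a Cohen algebra of the base.
-/

set_option autoImplicit false
set_option linter.style.haveILetI false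

universe u

open IsLocalRing

noncomputable section

namespace Groth.Agent.FSParaLib

theorem ker_map_residue (R : Type u) [CommRing R] [IsLocalRing R] [IsNoetherianRing R] (n : ℕ) :
    RingHom.ker (MvPowerSeries.map (σ := Fin n) (residue R)) =
      (maximalIdeal R).map (MvPowerSeries.C : R →+* MvPowerSeries (Fin n) R) := by
  refine le_antisymm (fun f hf => RamSamLib.mem_map_C_of_coeff_mem (IsNoetherian.noetherian _) f fun d => ?_) ?_
  · have h1 := congrArg (MvPowerSeries.coeff d) (RingHom.mem_ker.1 hf)
    rwa [MvPowerSeries.coeff_map, map_zero (MvPowerSeries.coeff d), residue_eq_zero_iff] at h1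
  · refine Ideal.map_le_iff_le_comap.2 fun a ha => ?_
    show MvPowerSeries.map (residue R) (MvPowerSeries.C a) = 0
    rw [MvPowerSeries.map_C, (residue_eq_zero_iff a).2 ha, map_zero]

/-- A surjection from a finite dimensional domain onto a ring of the same dimension is injective. -/
theorem injective_of_ringKrullDim_eq {P D : Type u} [CommRing P] [IsDomain P] [CommRing D] (f : P →+* D)
    (hf : Function.Surjective f) {n : ℕ} (hP : ringKrullDim P = n) (hD : ringKrullDim D = n) : Function.Injective f := by
  refine (injective_iff_map_eq_zero f).2 fun x hx => ?_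
  by_contra hx0
  have h := ringKrullDim_succ_le_of_surjective f hf (r := x) (mem_nonZeroDivisors_of_ne_zero hx0) hx
  rw [hP, hD] at h
  exact absurd h (not_le.2 (by exact_mod_cast Nat.lt_succ_self n))

/-- **Structure of complete flat algebras with regular fibre and separable residue extension.** -/
theorem exists_powerSeries_equiv (A E : Type u) [CommRing A] [IsNoetherianRing A] [IsLocalRing A]
    [CommRing E] [IsNoetherianRing E] [IsLocalRing E] [IsAdicComplete (maximalIdeal E) E] [Algebra A E]
    [IsLocalHom (algebraMap A E)] [Module.Flat A E]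
    [Algebra.IsGeometricallyReduced (ResidueField A) (ResidueField E)]
    (hreg : IsRegularLocalRing (E ⧸ (maximalIdeal A).map (algebraMap A E))) :
    ∃ (R : Type u) (_ : CommRing R) (_ : IsLocalRing R) (_ : IsNoetherianRing R) (d : ℕ),
      IsAdicComplete (maximalIdeal R) R ∧
      ringKrullDim (E ⧸ (maximalIdeal A).map (algebraMap A E)) = d ∧
      ∃ e : E ≃+* MvPowerSeries (Fin d) R, ((maximalIdeal A).map (algebraMap A E)).map e =
        (maximalIdeal R).map (MvPowerSeries.C : R →+* MvPowerSeries (Fin d) R) := by
  classical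
  obtain ⟨⟨R, _, _, _, hloc, hC, ⟨e⟩⟩, -⟩ := S2455.result (A := A) (ResidueField E)
  have hfs := S2454.result hC
  obtain ⟨-, hnR, hcR, hflR, hmR, -⟩ := hC
  haveI := hnR
  haveI := hcR
  haveI := hflR
  haveI := hloc
  -- lift the residue map to `R → E`
  let u : R →ₐ[A] E ⧸ maximalIdeal E :=
    { (e.toAlgHom.toRingHom.comp (residue R)) with
      commutes' := fun a => by
        show e (residue R (algebraMap A R a)) = _
        rw [show residue R (algebraMap A R a) = algebraMap (ResidueField A) (ResidueField R) (residue A a) from rfl,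
          AlgEquiv.commutes]
        rfl }
  haveI : IsHausdorff ((maximalIdeal E).map (Ideal.Quotient.mk (maximalIdeal E))) (E ⧸ maximalIdeal E) := by
    rw [Ideal.map_quotient_self]; infer_instance
  obtain ⟨v, -, hv⟩ := FSmoothAdicLib.exists_lift_complete (maximalIdeal A) (maximalIdeal R) (maximalIdeal E) hfs
    ⟨1, by rw [pow_one]; exact IsLocalRing.map_maximalIdeal_le _⟩ (maximalIdeal E) ⟨1, by rw [pow_one]⟩ u
    ⟨1, by
      rw [pow_one, Ideal.map_le_iff_le_comap]
      intro r hr
      rw [Ideal.mem_comap]
      show e (residue R r) ∈ _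
      rw [(residue_eq_zero_iff r).2 hr, map_zero]
      exact zero_mem _⟩
  letI : Algebra R E := v.toRingHom.toAlgebra
  haveI : IsScalarTower A R E := IsScalarTower.of_algebraMap_eq fun a => (v.commutes a).symm
  have hres : ∀ y : E, ∃ r : R, y - v r ∈ maximalIdeal E := fun y => by
    obtain ⟨z, hz⟩ := e.surjective (residue E y)
    obtain ⟨r, rfl⟩ := residue_surjective z
    refine ⟨r, Ideal.Quotient.eq.1 ?_⟩
    exact hz.symm.trans (AlgHom.congr_fun hv r).symm
  -- regular parameters of the fibre
  set mAE := (maximalIdeal A).map (algebraMap A E) with hmAE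
  have hmAEle : mAE ≤ maximalIdeal E := IsLocalRing.map_maximalIdeal_le _
  obtain ⟨d, hd⟩ : ∃ d, (maximalIdeal (E ⧸ mAE)).spanFinrank = d := ⟨_, rfl⟩
  obtain ⟨xb, hxb⟩ : ∃ x : Fin d → E ⧸ mAE, Ideal.span (Set.range x) = maximalIdeal (E ⧸ mAE) := by
    subst hd; exact RegLocal.exists_generators (R := E ⧸ mAE)
  have hdim : ringKrullDim (E ⧸ mAE) = d := hd ▸ (IsRegularLocalRing.spanFinrank_maximalIdeal (R := E ⧸ mAE)).symm
  choose x hx using fun i => Ideal.Quotient.mk_surjective (xb i)
  have hmapm : (maximalIdeal E).map (Ideal.Quotient.mk mAE) = maximalIdeal (E ⧸ mAE) :=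
    IsLocalRing.eq_maximalIdeal (Ideal.IsMaximal.map_of_surjective_of_ker_le Ideal.Quotient.mk_surjective
      (by rw [Ideal.mk_ker]; exact hmAEle))
  have hmE : maximalIdeal E = mAE ⊔ Ideal.span (Set.range x) := by
    have h1 := congrArg (Ideal.comap (Ideal.Quotient.mk mAE)) hmapm
    rw [Ideal.comap_map_of_surjective _ Ideal.Quotient.mk_surjective, ← RingHom.ker_eq_comap_bot, Ideal.mk_ker,
      sup_eq_left.2 hmAEle, ← hxb, show Set.range xb = Ideal.Quotient.mk mAE '' Set.range x by
        rw [← Set.range_comp]; exact congrArg Set.range (funext fun i => (hx i).symm), ← Ideal.map_span,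
      Ideal.comap_map_of_surjective _ Ideal.Quotient.mk_surjective, ← RingHom.ker_eq_comap_bot, Ideal.mk_ker] at h1
    rw [h1, sup_comm]
  have hxm : ∀ i, x i ∈ maximalIdeal E := fun i => hmE ▸ Ideal.mem_sup_right (Ideal.subset_span ⟨i, rfl⟩)
  obtain ⟨ψ, hψ⟩ := ArtFunLib.ps_exists_lift (Λ := R) (maximalIdeal E) x hxm
  let P := MvPowerSeries (Fin d) R
  obtain ⟨-, -, -, hcP⟩ := ArtFunLib.exists_psCRing (Λ := R) (k := ResidueField R) residue_surjective d
  haveI := hcP
  haveI : IsNoetherianRing P := MvPowerSeries.isNoetherianRing R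
  let ψA : P →ₐ[A] E := ψ.restrictScalars A
  have hψA : ∀ a, ψA (algebraMap A P a) = algebraMap A E a := ψA.commutes
  haveI : IsLocalHom (algebraMap A P) := by
    rw [IsScalarTower.algebraMap_eq A R P]
    haveI : IsLocalHom (algebraMap R P) := ⟨fun r hr => by
      have := hr.map (MvPowerSeries.constantCoeff (σ := Fin d) (R := R))
      rwa [MvPowerSeries.algebraMap_apply, Algebra.algebraMap_self, RingHom.id_apply,
        MvPowerSeries.constantCoeff_C] at this⟩
    exact RingHom.isLocalHom_comp _ _
  have hker : (maximalIdeal A).map (algebraMap A P) = RingHom.ker (MvPowerSeries.map (σ := Fin d) (residue R)) := by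
    rw [ker_map_residue, ← hmR, Ideal.map_map]
    congr 1
    ext a : 1
    rw [RingHom.comp_apply, IsScalarTower.algebraMap_apply A R P, MvPowerSeries.algebraMap_apply,
      Algebra.algebraMap_self, RingHom.id_apply]
  -- surjectivity
  have hsurj : Function.Surjective ψ := by
    have hI : (maximalIdeal P).map ψ.toRingHom = maximalIdeal E := by
      refine le_antisymm (Ideal.map_le_iff_le_comap.2 fun p hp => ?_) ?_
      · by_contra hu
        rw [Ideal.mem_comap, mem_maximalIdeal, mem_nonunits_iff, not_not] at hu
        rw [mem_maximalIdeal, mem_nonunits_iff, MvPowerSeries.isUnit_iff_constantCoeff] at hp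
        have hp' : MvPowerSeries.constantCoeff p ∈ maximalIdeal R := hp
        have hsub : p - MvPowerSeries.C (MvPowerSeries.constantCoeff p) ∈
            Ideal.span (Set.range (MvPowerSeries.X : Fin d → P)) := by
          rw [← WildQuotLib.ker_constantCoeff_eq]
          simp
        have h1 : ψ (p - MvPowerSeries.C (MvPowerSeries.constantCoeff p)) ∈ maximalIdeal E :=
          (Ideal.map_le_iff_le_comap.1 (by
            rw [Ideal.map_span, Ideal.span_le]
            rintro _ ⟨_, ⟨i, rfl⟩, rfl⟩
            exact (hψ i).symm ▸ hxm i) : _ ≤ (maximalIdeal E).comap ψ.toRingHom) hsub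
        have h2 : ψ (MvPowerSeries.C (MvPowerSeries.constantCoeff p)) ∈ maximalIdeal E := by
          rw [show (MvPowerSeries.C (MvPowerSeries.constantCoeff p) : P) = algebraMap R P _ from rfl, ψ.commutes]
          have h3 : e (residue R (MvPowerSeries.constantCoeff p)) = 0 := by
            rw [(residue_eq_zero_iff _).2 hp', map_zero]
          exact Ideal.Quotient.eq_zero_iff_mem.1 ((AlgHom.congr_fun hv _).trans h3)
        have h4 := add_mem h1 h2
        rw [← map_add, sub_add_cancel] at h4
        exact h4 hu
      · rw [hmE]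
        refine sup_le ?_ (Ideal.span_le.2 (Set.range_subset_iff.2 fun i => ?_))
        · rw [hmAE, Ideal.map_le_iff_le_comap]
          intro a ha
          rw [Ideal.mem_comap, ← hψA]
          exact Ideal.mem_map_of_mem ψ.toRingHom (map_nonunit (algebraMap A P) a ha)
        · rw [← hψ i]
          refine Ideal.mem_map_of_mem ψ.toRingHom ?_
          rw [mem_maximalIdeal, mem_nonunits_iff, MvPowerSeries.isUnit_iff_constantCoeff, MvPowerSeries.constantCoeff_X]
          exact not_isUnit_zero
    haveI : IsHausdorff ((maximalIdeal P).map ψ.toRingHom) E := by rw [hI]; infer_instance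
    refine surjective_of_mk_map_comp_surjective (I := maximalIdeal P) (f := ψ.toRingHom) fun z => ?_
    obtain ⟨y, rfl⟩ := Ideal.Quotient.mk_surjective z
    obtain ⟨r, hr⟩ := hres y
    refine ⟨algebraMap R P r, (Ideal.Quotient.eq.2 ?_).symm⟩
    show y - ψ (algebraMap R P r) ∈ _
    rw [hI, AlgHom.commutes]
    exact hr
  -- injectivity on the fibres
  let χ : P →+* E ⧸ mAE := (Ideal.Quotient.mk mAE).comp ψ.toRingHom
  have hχk : RingHom.ker (MvPowerSeries.map (σ := Fin d) (residue R)) ≤ RingHom.ker χ := by
    rw [← hker, Ideal.map_le_iff_le_comap]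
    intro a ha
    rw [Ideal.mem_comap, RingHom.mem_ker]
    show Ideal.Quotient.mk mAE (ψA (algebraMap A P a)) = 0
    rw [hψA, Ideal.Quotient.eq_zero_iff_mem]
    exact Ideal.mem_map_of_mem _ ha
  have hπs : Function.Surjective (MvPowerSeries.map (σ := Fin d) (residue R)) := fun f =>
    ⟨fun m => (residue_surjective (f m)).choose, funext fun m => (residue_surjective (f m)).choose_spec⟩
  let χ' := RingHom.liftOfSurjective (MvPowerSeries.map (σ := Fin d) (residue R)) hπs ⟨χ, hχk⟩
  have hχ' : ∀ p, χ' (MvPowerSeries.map (residue R) p) = χ p := fun p =>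
    RingHom.liftOfRightInverse_comp_apply _ _ _ _ _
  haveI : IsDomain (MvPowerSeries (Fin d) (ResidueField R)) := NoZeroDivisors.to_isDomain _
  have hχ'inj : Function.Injective χ' :=
    injective_of_ringKrullDim_eq χ' (fun z => by
      obtain ⟨y, rfl⟩ := Ideal.Quotient.mk_surjective z
      obtain ⟨p, rfl⟩ := hsurj y
      exact ⟨_, hχ' p⟩) (WildQuotLib.ringKrullDim_eq (ResidueField R) d) hdim
  haveI : IsAdicComplete ((maximalIdeal A).map (algebraMap A P)) P := CohenPresLib.isAdicComplete_map_le _ le_rfl
  haveI : IsAdicComplete mAE E := CohenPresLib.isAdicComplete_map_le _ le_rfl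
  have hb := CohenPresLib.bijective_of_flat (maximalIdeal A) (IsLocalRing.map_maximalIdeal_le _) ψA
    (fun y => by
      obtain ⟨p, hp⟩ := hsurj y
      exact ⟨p, by rw [show ψA p = y from hp, sub_self]; exact zero_mem _⟩)
    (fun p hp => by
      rw [hker, RingHom.mem_ker]
      refine hχ'inj ?_
      rw [map_zero, hχ']
      exact Ideal.Quotient.eq_zero_iff_mem.2 hp)
  refine ⟨R, inferInstance, inferInstance, hnR, d, hcR, hdim, (RingEquiv.ofBijective ψA.toRingHom hb).symm, ?_⟩
  rw [← ker_map_residue, ← hker, hmAE, ← Ideal.map_coe, Ideal.map_map]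
  congr 1
  ext a : 1
  rw [RingHom.comp_apply]
  show (RingEquiv.ofBijective ψA.toRingHom hb).symm _ = _
  rw [RingEquiv.symm_apply_eq]
  exact (hψA a).symm

end Groth.Agent.FSParaLib
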